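import Mathlib.AlgebraicGeometry.Morphisms.Flat
import Mathlib.AlgebraicGeometry.Morphisms.Separated

/-!
# `f_* O_X = O_S` is stable under flat base change
-/

set_option autoImplicit false
universe u

open CategoryTheory CategoryTheory.Limits AlgebraicGeometry TopologicalSpace Opposite

namespace Groth.Agent.Lib.PicFpqc27.FlatBC

variable {X S X' S' : Scheme.{u}} {f : X ⟶ S} {g : S' ⟶ S} {f' : X' ⟶ S'} {g' : X' ⟶ X}

theorem app_bijective_of_affine (H : IsPullback g' f' f g) [QuasiCompact f] [QuasiSeparated f] [Flat g]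
    (hf : ∀ U : S.Opens, Function.Bijective (f.app U)) {U : S.Opens} (hU : IsAffineOpen U)
    {W : S'.Opens} (hW : IsAffineOpen W) (hle : W ≤ g ⁻¹ᵁ U) : Function.Bijective (f'.app W) := by
  have hc : IsCompact ((f ⁻¹ᵁ U : X.Opens) : Set X) := f.isCompact_preimage hU.isCompact
  have hq : IsQuasiSeparated ((f ⁻¹ᵁ U : X.Opens) : Set X) :=
    f.isQuasiSeparated_preimage hU.isQuasiSeparated
  have hUY : f' ⁻¹ᵁ W = g' ⁻¹ᵁ (f ⁻¹ᵁ U) ⊓ f' ⁻¹ᵁ W := by
    refine (inf_eq_right.mpr ?_).symm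
    intro x hx
    have h1 : g (f' x) ∈ U := hle hx
    show f (g' x) ∈ U
    rw [← Scheme.Hom.comp_apply, H.w, Scheme.Hom.comp_apply]
    exact h1
  have h := isIso_pushoutSection_of_isQuasiSeparated_of_flat_right H (US := U) (UT := W) (UX := f ⁻¹ᵁ U)
    (UY := f' ⁻¹ᵁ W) hle le_rfl hUY hU hW hc hq
  have hp := (isIso_pushoutSection_iff H hle le_rfl hUY).mp h
  haveI : IsIso (f.appLE U (f ⁻¹ᵁ U) le_rfl) := by
    rw [← Scheme.Hom.app_eq_appLE]
    exact (ConcreteCategory.isIso_iff_bijective _).mpr (hf U)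
  haveI := hp.isIso_inr_of_isIso
  have : IsIso (f'.app W) := by rw [Scheme.Hom.app_eq_appLE]; infer_instance
  exact ConcreteCategory.bijective_of_isIso _

theorem app_bijective (H : IsPullback g' f' f g) [QuasiCompact f] [QuasiSeparated f] [Flat g]
    (hf : ∀ U : S.Opens, Function.Bijective (f.app U)) (V : S'.Opens) :
    Function.Bijective (f'.app V) := by
  let Idx (V : S'.Opens) := {W : S'.Opens // IsAffineOpen W ∧ W ≤ V ∧ ∃ U : S.Opens, IsAffineOpen U ∧ W ≤ g ⁻¹ᵁ U}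
  have hcov : ∀ V, V ≤ ⨆ W : Idx V, W.1 := fun V y hy => by
    obtain ⟨U, hU, hyU, -⟩ := exists_isAffineOpen_mem_and_subset (X := S) (x := g y) (U := ⊤) trivial
    obtain ⟨W, hW, hyW, hle⟩ := exists_isAffineOpen_mem_and_subset (X := S') (x := y) (U := V ⊓ g ⁻¹ᵁ U) ⟨hy, hyU⟩
    exact Opens.mem_iSup.mpr ⟨⟨W, hW, fun z hz => (hle hz).1, U, hU, fun z hz => (hle hz).2⟩, hyW⟩
  have hb : ∀ V, ∀ W : Idx V, Function.Bijective (f'.app W.1) := fun V W => by
    obtain ⟨hW, -, U, hU, hle⟩ := W.2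
    exact app_bijective_of_affine H hf hU hW hle
  have hle' : ∀ V, ∀ W : Idx V, W.1 ≤ V := fun V W => W.2.2.1
  have nat : ∀ {V V' : S'.Opens} (h : V' ≤ V) (z : Γ(S', V)),
      f'.app V' (S'.presheaf.map (homOfLE h).op z) =
        X'.presheaf.map (homOfLE (f'.preimage_mono h)).op (f'.app V z) := fun h z => by
    rw [← CommRingCat.comp_apply, ← CommRingCat.comp_apply, Scheme.Hom.naturality]
    rfl
  have hinj : ∀ V, Function.Injective (f'.app V) := fun V z z' hz =>
    S'.sheaf.eq_of_locally_eq' (fun W : Idx V => W.1) V (fun W => homOfLE (hle' V W)) (hcov V) z z'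
      fun W => (hb V W).1 ((nat (hle' V W) z).trans ((congrArg _ hz).trans (nat (hle' V W) z').symm))
  refine ⟨hinj V, fun x => ?_⟩
  choose w hw using fun W : Idx V => (hb V W).2 (X'.presheaf.map (homOfLE (f'.preimage_mono (hle' V W))).op x)
  obtain ⟨t, ht, -⟩ := S'.sheaf.existsUnique_gluing' (fun W : Idx V => W.1) V
    (fun W => homOfLE (hle' V W)) (hcov V) w (fun W W' => by
      refine hinj _ ?_
      refine (nat (inf_le_left : W.1 ⊓ W'.1 ≤ W.1) (w W)).trans
        (Eq.trans ?_ (nat (inf_le_right : W.1 ⊓ W'.1 ≤ W'.1) (w W')).symm)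
      rw [hw, hw, ← CommRingCat.comp_apply, ← CommRingCat.comp_apply, ← Functor.map_comp,
        ← Functor.map_comp]
      rfl)
  refine ⟨t, X'.sheaf.eq_of_locally_eq' (fun W : Idx V => f' ⁻¹ᵁ W.1) _
    (fun W => homOfLE (f'.preimage_mono (hle' V W))) ?_ _ _ fun W => ?_⟩
  · rw [← Scheme.Hom.preimage_iSup]; exact f'.preimage_mono (hcov V)
  · exact (nat (hle' V W) t).symm.trans ((congrArg _ (ht W)).trans (hw W))

end Groth.Agent.Lib.PicFpqc27.FlatBC
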