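import Groth.Agent.Lib.PicFpqc27.Rigid
import Groth.Agent.Lib.PicFppf.Glue

/-!
# A rigidified invertible module with isomorphic pullbacks descends along an fpqc cover
-/

set_option autoImplicit false
set_option maxHeartbeats 200000
set_option linter.style.haveILetI false
universe u

open CategoryTheory CategoryTheory.Limits AlgebraicGeometry Opposite TopologicalSpace
open Groth.Agent.Lib Groth.Agent.Lib.TensorMod
open Groth.Agent.Lib.TensorMod.Pullback
open Groth.Agent.Lib.PicFpqc27.Rigid

noncomputable section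

namespace Groth.Agent.Lib.PicFpqc27.Glue

variable {Y T : Scheme.{u}} {q : Y ⟶ T} (s : T ⟶ Y) (hs : s ≫ q = 𝟙 T)
  (hO : ∀ J : Slice q, Flat J.v → Function.Bijective J.sn.appTop)
  (K : Slice q) (L : K.P.Modules)

include hO in
/-- Descent of a rigidifiable module. -/
theorem exists_glue [Flat K.v] [Surjective K.v] [QuasiCompact K.v] (hL : PicF.IsInvertible L)
    (hrig : Nonempty ((pb (Slice.σ s hs K)).obj L ≅ Coh.structureModule K.V))
    (hiso : Nonempty
      ((pb (Slice.map (p₁ PUnit.unit PUnit.unit) (p₁_v (K := fun _ : PUnit.{u+1} => K) PUnit.unit PUnit.unit))).obj L ≅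
       (pb (Slice.map (p₂ PUnit.unit PUnit.unit) (p₂_v (K := fun _ : PUnit.{u+1} => K) PUnit.unit PUnit.unit))).obj L)) :
    ∃ M : Y.Modules, PicF.IsInvertible M ∧ Nonempty ((pb K.pr).obj M ≅ L) := by
  obtain ⟨ε, hε⟩ := Groth.Agent.H52.PushInv.exists_gen_of_iso_unit hrig.some
  let D := dd (K := fun _ : PUnit.{u+1} => K) (L := fun _ => L) s hs (fun _ => ε) hO (fun _ => hL) (fun _ => hε)
    (fun _ _ => hiso) (fun _ => inferInstance)
  haveI : Flat K.pr := MorphismProperty.of_isPullback (P := @Flat) K.sq.flip inferInstance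
  haveI : Surjective K.pr := MorphismProperty.of_isPullback (P := @Surjective) K.sq.flip inferInstance
  haveI : QuasiCompact K.pr := MorphismProperty.of_isPullback (P := @QuasiCompact) K.sq.flip inferInstance
  have hcov : Presieve.ofArrows (fun _ : PUnit.{u+1} => K.P) (fun _ => K.pr) ∈ Scheme.fpqcPrecoverage Y := by
    rw [Presieve.ofArrows_pUnit]
    exact Scheme.Hom.singleton_mem_fpqcPrecoverage K.pr
  haveI := D.isQuasicoherent_glue hcov
  have hi : Nonempty ((pb K.pr).obj (D.glue hcov) ≅ L) :=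
    ⟨@asIso _ _ _ _ (D.cmp hcov PUnit.unit) (D.isIso_cmp hcov PUnit.unit)⟩
  exact ⟨D.glue hcov, PicFppf.Glue.isInvertible_of_pullback K.pr _
    (TensorMod.Invertible.isInvertible_of_iso hi.some.symm hL), hi⟩

end Groth.Agent.Lib.PicFpqc27.Glue
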